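import Mathlib
import Cfsg.Agent.Prune
set_option linter.all false
prune_inst 0x7f00000000000000000000000000000000000000000000000000000000000000000000000000000000000000000000000000000000000000000000000000000000000000000000000000000000000000003fffffffffffffffffffffffffffbeffbdffffffff

/-!
# Bounded quantifiers decided by one loop (text of helper45)
-/

set_option autoImplicit false

namespace Cfsg.Agent.ChevFast.Lin

noncomputable def bA (p : Nat → Bool) (n : Nat) : Bool := @Nat.rec (fun _ => Bool) true (fun k r => @Bool.rec (fun _ => Bool) false r (p k)) n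

theorem bA_iff (p : Nat → Bool) (n : Nat) : bA p n = true ↔ ∀ k, k < n → p k = true :=
  @Nat.rec (fun n => bA p n = true ↔ ∀ k, k < n → p k = true) ⟨fun _ _ h => absurd h (Nat.not_lt_zero _), fun _ => rfl⟩
    (fun n ih => ⟨fun h k hk => (Nat.lt_succ_iff_lt_or_eq.1 hk).elim
        (ih.1 (@Bool.rec (fun b => @Bool.rec (fun _ => Bool) false (bA p n) b = true → bA p n = true) (fun h => Bool.noConfusion h) id (p n) h) k)
        fun e => e ▸ @Bool.rec (fun b => @Bool.rec (fun _ => Bool) false (bA p n) b = true → b = true) (fun h => Bool.noConfusion h) (fun _ => rfl) (p n) h,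
      fun h => (congrArg (fun b => @Bool.rec (fun _ => Bool) false (bA p n) b) (h n (Nat.lt_succ_self n))).trans
        (ih.2 fun k hk => h k (Nat.lt_succ_of_lt hk))⟩) n

@[reducible] noncomputable def dD (n : Nat) (P : ∀ k, k < n → Prop) [∀ k h, Decidable (P k h)] : Decidable (∀ k h, P k h) :=
  decidable_of_iff (bA (fun k => dite (k < n) (fun h => Decidable.decide (P k h)) fun _ => true) n = true)
    ((bA_iff _ n).trans ⟨fun w k h => of_decide_eq_true ((dif_pos h).symm.trans (w k h)), fun w k h => (dif_pos h).trans (decide_eq_true (w k h))⟩)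

@[reducible] noncomputable def dB (n : Nat) (P : Nat → Prop) [DecidablePred P] : Decidable (∀ k, k < n → P k) :=
  decidable_of_iff (bA (fun k => Decidable.decide (P k)) n = true)
    ((bA_iff _ n).trans ⟨fun w k h => of_decide_eq_true (w k h), fun w k h => decide_eq_true (w k h)⟩)

@[reducible] noncomputable def dE (n : Nat) (P : Nat → Prop) [DecidablePred P] : Decidable (∀ k, k ≤ n → P k) :=
  decidable_of_iff (bA (fun k => Decidable.decide (P k)) (Nat.succ n) = true)
    ((bA_iff _ _).trans ⟨fun w k h => of_decide_eq_true (w k (Nat.lt_succ_of_le h)), fun w k h => decide_eq_true (w k (Nat.le_of_lt_succ h))⟩)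

@[reducible] noncomputable def dF (n : Nat) (P : Fin n → Prop) [DecidablePred P] : Decidable (∀ i, P i) :=
  decidable_of_iff (bA (fun k => dite (k < n) (fun h => Decidable.decide (P ⟨k, h⟩)) fun _ => true) n = true)
    ((bA_iff _ n).trans ⟨fun w i => of_decide_eq_true ((dif_pos i.2).symm.trans (w i.1 i.2)), fun w k h => (dif_pos h).trans (decide_eq_true (w ⟨k, h⟩))⟩)

@[reducible] noncomputable def dG (n : Nat) [z : NeZero n] (P : Fin n → Prop) [DecidablePred P] : Decidable (∀ i, P i) :=
  decidable_of_iff (bA (fun k => Decidable.decide (P ⟨Nat.mod k n, Nat.mod_lt k (Nat.pos_of_ne_zero z.1)⟩)) n = true)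
    ((bA_iff _ n).trans ⟨fun w i => (Fin.ext (Nat.mod_eq_of_lt i.2) : (⟨_, _⟩ : Fin n) = i) ▸ of_decide_eq_true (w i.1 i.2), fun w _ _ => decide_eq_true (w _)⟩)

noncomputable def bE (p : Nat → Bool) (n : Nat) : Bool := @Nat.rec (fun _ => Bool) false (fun k r => @Bool.rec (fun _ => Bool) r true (p k)) n

theorem bE_iff (p : Nat → Bool) (n : Nat) : bE p n = true ↔ ∃ k, k < n ∧ p k = true :=
  @Nat.rec (fun n => bE p n = true ↔ ∃ k, k < n ∧ p k = true) ⟨fun h => Bool.noConfusion h, fun ⟨_, h, _⟩ => absurd h (Nat.not_lt_zero _)⟩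
    (fun n ih => ⟨fun h => @Bool.rec (fun b => p n = b → @Bool.rec (fun _ => Bool) (bE p n) true b = true → ∃ k, k < n + 1 ∧ p k = true)
        (fun _ h => (ih.1 h).imp fun _ h => ⟨Nat.lt_succ_of_lt h.1, h.2⟩) (fun e _ => ⟨n, Nat.lt_succ_self n, e⟩) (p n) rfl h,
      fun ⟨k, hk, h⟩ => @Bool.rec (fun b => p n = b → @Bool.rec (fun _ => Bool) (bE p n) true b = true)
        (fun e => ih.2 ⟨k, (Nat.lt_succ_iff_lt_or_eq.1 hk).resolve_right fun e' => Bool.noConfusion ((e' ▸ h :).symm.trans e), h⟩)
        (fun _ => rfl) (p n) rfl⟩) n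

@[reducible] noncomputable def dX (n : Nat) (P : Nat → Prop) [DecidablePred P] : Decidable (∃ k, k < n ∧ P k) :=
  decidable_of_iff (bE (fun k => Decidable.decide (P k)) n = true)
    ((bE_iff _ n).trans (exists_congr fun _ => and_congr_right' decide_eq_true_iff))

@[reducible] noncomputable def dY (n : Nat) (P : Fin n → Prop) [DecidablePred P] : Decidable (∃ i, P i) :=
  decidable_of_iff (bE (fun k => dite (k < n) (fun h => Decidable.decide (P ⟨k, h⟩)) fun _ => false) n = true)
    ((bE_iff _ n).trans ⟨fun ⟨k, h, w⟩ => ⟨⟨k, h⟩, of_decide_eq_true ((dif_pos h).symm.trans w)⟩,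
      fun ⟨i, w⟩ => ⟨i.1, i.2, (dif_pos i.2).trans (decide_eq_true w)⟩⟩)

attribute [scoped instance] dD dB dE dF dG dX dY

end Cfsg.Agent.ChevFast.Lin
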